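import Mathlib
import Cfsg.Agent.Spor.HN.Tab

/-! Generated by tools/dc: stabiliser chains and relators -/

set_option autoImplicit false
set_option maxRecDepth 100000
set_option linter.unusedVariables false
set_option exponentiation.threshold 100000

namespace Cfsg.Agent.Spor.MHN

open Cfsg.Agent.Spor Cfsg.Agent.Spor.DC

theorem ss2_0 : allRange (nat_lit 0) (nat_lit 1408) (levOK T inv (M.S (nat_lit 2) (nat_lit 0)) (nat_lit 42) (nat_lit 2) (nat_lit 59) (nat_lit 0)
    (memK T (M.S (nat_lit 2)) (nat_lit 48) (nat_lit 59) B (nat_lit 2) (nat_lit 2))) = true := by decide +kernel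

theorem ss2_1 : allRange (nat_lit 0) (nat_lit 1408) (levOK T inv (M.S (nat_lit 2) (nat_lit 2)) (nat_lit 48) (nat_lit 2) (nat_lit 59) (nat_lit 57)
    (memK T (M.S (nat_lit 2)) (nat_lit 56) (nat_lit 59) B (nat_lit 3) (nat_lit 1))) = true := by decide +kernel

theorem ss2_2 : allRange (nat_lit 0) (nat_lit 1408) (levOK T inv (M.S (nat_lit 2) (nat_lit 3)) (nat_lit 56) (nat_lit 2) (nat_lit 59) (nat_lit 1)
    (memK T (M.S (nat_lit 2)) (nat_lit 59) (nat_lit 59) B (nat_lit 4) (nat_lit 0))) = true := by decide +kernel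

theorem ss3_0 : allRange (nat_lit 0) (nat_lit 1408) (levOK T inv (M.S (nat_lit 3) (nat_lit 0)) (nat_lit 59) (nat_lit 2) (nat_lit 74) (nat_lit 0)
    (memK T (M.S (nat_lit 3)) (nat_lit 63) (nat_lit 74) B (nat_lit 2) (nat_lit 2))) = true := by decide +kernel

theorem ss3_1 : allRange (nat_lit 0) (nat_lit 1408) (levOK T inv (M.S (nat_lit 3) (nat_lit 2)) (nat_lit 63) (nat_lit 2) (nat_lit 74) (nat_lit 57)
    (memK T (M.S (nat_lit 3)) (nat_lit 71) (nat_lit 74) B (nat_lit 3) (nat_lit 1))) = true := by decide +kernel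

theorem ss3_2 : allRange (nat_lit 0) (nat_lit 1408) (levOK T inv (M.S (nat_lit 3) (nat_lit 3)) (nat_lit 71) (nat_lit 2) (nat_lit 74) (nat_lit 1)
    (memK T (M.S (nat_lit 3)) (nat_lit 74) (nat_lit 74) B (nat_lit 4) (nat_lit 0))) = true := by decide +kernel

theorem ss4_0 : allRange (nat_lit 0) (nat_lit 1408) (levOK T inv (M.S (nat_lit 4) (nat_lit 0)) (nat_lit 74) (nat_lit 2) (nat_lit 88) (nat_lit 0)
    (memK T (M.S (nat_lit 4)) (nat_lit 78) (nat_lit 88) B (nat_lit 1) (nat_lit 3))) = true := by decide +kernel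

theorem ss4_1 : allRange (nat_lit 0) (nat_lit 1408) (levOK T inv (M.S (nat_lit 4) (nat_lit 1)) (nat_lit 78) (nat_lit 2) (nat_lit 88) (nat_lit 25)
    (memK T (M.S (nat_lit 4)) (nat_lit 82) (nat_lit 88) B (nat_lit 2) (nat_lit 2))) = true := by decide +kernel

theorem ss4_2 : allRange (nat_lit 0) (nat_lit 1408) (levOK T inv (M.S (nat_lit 4) (nat_lit 2)) (nat_lit 82) (nat_lit 2) (nat_lit 88) (nat_lit 57)
    (memK T (M.S (nat_lit 4)) (nat_lit 88) (nat_lit 88) B (nat_lit 4) (nat_lit 0))) = true := by decide +kernel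

theorem ss5_0 : allRange (nat_lit 0) (nat_lit 1408) (levOK T inv (M.S (nat_lit 5) (nat_lit 0)) (nat_lit 88) (nat_lit 2) (nat_lit 102) (nat_lit 0)
    (memK T (M.S (nat_lit 5)) (nat_lit 92) (nat_lit 102) B (nat_lit 1) (nat_lit 3))) = true := by decide +kernel

theorem ss5_1 : allRange (nat_lit 0) (nat_lit 1408) (levOK T inv (M.S (nat_lit 5) (nat_lit 1)) (nat_lit 92) (nat_lit 3) (nat_lit 102) (nat_lit 25)
    (memK T (M.S (nat_lit 5)) (nat_lit 98) (nat_lit 102) B (nat_lit 2) (nat_lit 2))) = true := by decide +kernel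

theorem ss5_2 : allRange (nat_lit 0) (nat_lit 1408) (levOK T inv (M.S (nat_lit 5) (nat_lit 2)) (nat_lit 98) (nat_lit 2) (nat_lit 102) (nat_lit 57)
    (memK T (M.S (nat_lit 5)) (nat_lit 101) (nat_lit 102) B (nat_lit 3) (nat_lit 1))) = true := by decide +kernel

theorem ss5_3 : allRange (nat_lit 0) (nat_lit 1408) (levOK T inv (M.S (nat_lit 5) (nat_lit 3)) (nat_lit 101) (nat_lit 1) (nat_lit 102) (nat_lit 1)
    (memK T (M.S (nat_lit 5)) (nat_lit 102) (nat_lit 102) B (nat_lit 4) (nat_lit 0))) = true := by decide +kernel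

theorem ss6_0 : allRange (nat_lit 0) (nat_lit 1408) (levOK T inv (M.S (nat_lit 6) (nat_lit 0)) (nat_lit 102) (nat_lit 2) (nat_lit 115) (nat_lit 0)
    (memK T (M.S (nat_lit 6)) (nat_lit 105) (nat_lit 115) B (nat_lit 1) (nat_lit 3))) = true := by decide +kernel

theorem ss6_1 : allRange (nat_lit 0) (nat_lit 1408) (levOK T inv (M.S (nat_lit 6) (nat_lit 1)) (nat_lit 105) (nat_lit 2) (nat_lit 115) (nat_lit 25)
    (memK T (M.S (nat_lit 6)) (nat_lit 109) (nat_lit 115) B (nat_lit 2) (nat_lit 2))) = true := by decide +kernel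

theorem ss6_2 : allRange (nat_lit 0) (nat_lit 1408) (levOK T inv (M.S (nat_lit 6) (nat_lit 2)) (nat_lit 109) (nat_lit 2) (nat_lit 115) (nat_lit 57)
    (memK T (M.S (nat_lit 6)) (nat_lit 114) (nat_lit 115) B (nat_lit 3) (nat_lit 1))) = true := by decide +kernel

theorem ss6_3 : allRange (nat_lit 0) (nat_lit 1408) (levOK T inv (M.S (nat_lit 6) (nat_lit 3)) (nat_lit 114) (nat_lit 1) (nat_lit 115) (nat_lit 1)
    (memK T (M.S (nat_lit 6)) (nat_lit 115) (nat_lit 115) B (nat_lit 4) (nat_lit 0))) = true := by decide +kernel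

theorem ss7_0 : allRange (nat_lit 0) (nat_lit 1408) (levOK T inv (M.S (nat_lit 7) (nat_lit 0)) (nat_lit 115) (nat_lit 2) (nat_lit 126) (nat_lit 0)
    (memK T (M.S (nat_lit 7)) (nat_lit 123) (nat_lit 126) B (nat_lit 1) (nat_lit 3))) = true := by decide +kernel

theorem ss7_1 : allRange (nat_lit 0) (nat_lit 1408) (levOK T inv (M.S (nat_lit 7) (nat_lit 1)) (nat_lit 123) (nat_lit 2) (nat_lit 126) (nat_lit 25)
    (memK T (M.S (nat_lit 7)) (nat_lit 125) (nat_lit 126) B (nat_lit 2) (nat_lit 2))) = true := by decide +kernel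

theorem ss7_2 : allRange (nat_lit 0) (nat_lit 1408) (levOK T inv (M.S (nat_lit 7) (nat_lit 2)) (nat_lit 125) (nat_lit 1) (nat_lit 126) (nat_lit 57)
    (memK T (M.S (nat_lit 7)) (nat_lit 126) (nat_lit 126) B (nat_lit 4) (nat_lit 0))) = true := by decide +kernel

theorem ss8_0 : allRange (nat_lit 0) (nat_lit 1408) (levOK T inv (M.S (nat_lit 8) (nat_lit 0)) (nat_lit 126) (nat_lit 2) (nat_lit 141) (nat_lit 0)
    (memK T (M.S (nat_lit 8)) (nat_lit 134) (nat_lit 141) B (nat_lit 1) (nat_lit 3))) = true := by decide +kernel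

theorem ss8_1 : allRange (nat_lit 0) (nat_lit 1408) (levOK T inv (M.S (nat_lit 8) (nat_lit 1)) (nat_lit 134) (nat_lit 2) (nat_lit 141) (nat_lit 25)
    (memK T (M.S (nat_lit 8)) (nat_lit 138) (nat_lit 141) B (nat_lit 2) (nat_lit 2))) = true := by decide +kernel

theorem ss8_2 : allRange (nat_lit 0) (nat_lit 1408) (levOK T inv (M.S (nat_lit 8) (nat_lit 2)) (nat_lit 138) (nat_lit 2) (nat_lit 141) (nat_lit 57)
    (memK T (M.S (nat_lit 8)) (nat_lit 141) (nat_lit 141) B (nat_lit 4) (nat_lit 0))) = true := by decide +kernel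

theorem relAc : band (passOK T (thS T (nat_lit 0)) inv (nat_lit 141) B [141, 6, 141, 6] (nat_lit 15) (nat_lit 2)) (M.fixAll T (thS T (nat_lit 0)) inv (nat_lit 141) (nat_lit 0) B [141, 6, 141, 6] []) = true := by decide +kernel

theorem relBc : band (passOK T (thS T (nat_lit 0)) inv (nat_lit 141) B [141, 141, 141, 141, 141] (nat_lit 15) (nat_lit 2)) (M.fixAll T (thS T (nat_lit 0)) inv (nat_lit 141) (nat_lit 0) B [141, 141, 141, 141, 141] []) = true := by decide +kernel

theorem relCc : band (passOK T (thS T (nat_lit 0)) inv (nat_lit 141) B [141, 141, 0, 141, 1] (nat_lit 15) (nat_lit 2)) (M.fixAll T (thS T (nat_lit 0)) inv (nat_lit 141) (nat_lit 0) B [141, 141, 0, 141, 1] []) = true := by decide +kernel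

end Cfsg.Agent.Spor.MHN
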