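import Mathlib
import Cfsg.Agent.Spor.HN.Tab
import Cfsg.Agent.Spor.HN.U0
import Cfsg.Agent.Spor.HN.U1
import Cfsg.Agent.Spor.HN.U2

/-!
The group `HH` presented by the relators of the Harada–Norton group in `x, y, z` has order at most `177408000`.
-/

set_option autoImplicit false

namespace Cfsg.Agent.Spor.MHN

open Cfsg.Agent.Spor Cfsg.Agent.Spor.DC

theorem sq_of_inverted {Q : Type*} [Group Q] {X V Z S : Q} (hX : X * X = 1) (hZ : Z * (X * V⁻¹ * X * V) = X * V⁻¹ * X * V * Z)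
    (hS : S * (X * V⁻¹ * X * V) = X * V⁻¹ * X * V * S) (h : Z * (S * X) ^ 3 = 1) :
    X * V⁻¹ * X * V * (X * V⁻¹ * X * V) = 1 := by
  have h0 : X⁻¹ = X := inv_eq_of_mul_eq_one_left hX
  have h1 : X * (X * V⁻¹ * X * V) = (X * V⁻¹ * X * V)⁻¹ * X := by
    simp only [mul_inv_rev, h0, inv_inv, ← mul_assoc, hX, one_mul]
    simp only [mul_assoc, hX, mul_one]
  generalize X * V⁻¹ * X * V = c at *
  have h2 : SemiconjBy (S * X) c c⁻¹ := SemiconjBy.mul_left (Commute.inv_right hS) h1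
  have h3 : SemiconjBy (S * X) c⁻¹ c := by simpa using h2.inv_right
  have h5 : SemiconjBy (Z * (S * X) ^ 3) c c⁻¹ := by
    rw [pow_succ, pow_two]
    exact SemiconjBy.mul_left (Commute.inv_right hZ) ((h2.mul_left h3).mul_left h2)
  rw [h] at h5
  exact mul_eq_one_iff_eq_inv.2 (by simpa using h5.eq)

/-- The relators of `U₃(5):2` without the last one, in the letters `x, y, y⁻¹`. -/
def W0 : List (List ℕ) := [[1, 1, 1, 1, 1, 1], [0, 2, 0, 1, 0, 2, 0, 1, 0, 2, 0, 1],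
  [0, 1, 1, 0, 1, 1, 1, 0, 1, 1, 0, 1, 1, 1, 0, 1, 1, 0, 1, 1, 1], [0, 1, 0, 1, 0, 1, 0, 1, 0, 1, 0, 1, 0, 1, 0, 1],
  [0, 1, 0, 1, 1, 1, 0, 1, 0, 1, 1, 1, 0, 1, 0, 1, 1, 1, 0, 1, 0, 1, 1, 1]]

/-- The missing relator. -/
def zeta : List ℕ := [0, 1, 1, 0, 2, 0, 2, 0, 1, 1, 0, 2, 2, 0, 1, 0, 1, 0, 2, 2]

/-- The relators of `HS:2` with the letter `z`. -/
def WZ : List (List ℕ) := [[3, 0, 3, 0], [3, 1, 0, 2, 2, 0, 2, 0, 2, 3, 1, 0, 1, 0, 1, 1, 0, 2],
  [3, 2, 0, 2, 0, 2, 2, 2, 3, 1, 1, 1, 0, 1, 0, 1, 0, 2, 0, 2, 0, 2, 2, 2, 3, 1, 1, 1, 0, 1, 0, 1, 0, 2, 0, 2, 0, 2, 2,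
    2, 3, 1, 1, 1, 0, 1, 0, 1, 0]]

section

variable {Q : Type*} [Group Q] {q : ℕ → Q} (hinv : ∀ x < 4, q x * q (ue_inv x) = 1) (h0 : ∀ w ∈ W0, evalW q w = 1)
  (hZ : ∀ w ∈ WZ, evalW q w = 1)

include hinv h0 hZ

theorem zeta_eq_one : evalW q zeta = 1 := by
  have hi : ∀ x < 3, q x * q (ub_inv x) = 1 := fun x hx => by
    rw [show ub_inv x = ue_inv x by interval_cases x <;> rfl]
    exact hinv x (by omega)
  have hx : q 0 * q 0 = 1 := hinv 0 (by decide)
  have hz : q 3 * q 3 = 1 := hinv 3 (by decide)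
  have hw : ∀ w, lettersLt 4 w = true → evalW q (invW ue_inv w) = (evalW q w)⁻¹ := fun w h =>
    evalW_invW fun x h1 => hinv x ((lettersLt_iff _ _).1 h x h1)
  have a1 : q 0 ∈ Subgroup.centralizer {q 3} := by
    rw [Subgroup.mem_centralizer_singleton_iff]
    have h1 : q 3 * q 0 * (q 3 * q 0) = 1 := by simpa [mul_assoc] using hZ [3, 0, 3, 0] (by decide)
    rw [eq_inv_of_mul_eq_one_left h1, mul_inv_rev, inv_eq_of_mul_eq_one_left hx, inv_eq_of_mul_eq_one_left hz]
  have a2 : evalW q [1, 0, 1, 0, 1, 1, 0, 2] ∈ Subgroup.centralizer {q 3} := by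
    rw [Subgroup.mem_centralizer_singleton_iff]
    have h1 := hZ (3 :: appL (invW ue_inv [1, 0, 1, 0, 1, 1, 0, 2]) (3 :: [1, 0, 1, 0, 1, 1, 0, 2])) (by decide +kernel)
    rw [evalW_cons, evalW_appL, hw _ rfl, evalW_cons q 3, mul_eq_one_iff_eq_inv, mul_inv_rev, inv_inv, mul_inv_rev,
      inv_eq_of_mul_eq_one_left hz, mul_assoc, eq_inv_mul_iff_mul_eq] at h1
    exact h1
  have hr : ∀ i, evalW q (ub_rels.get i) = 1 := hrels_of_relTest hi h0 (by decide +kernel)
  have hH : ∀ x < 1, q x ∈ Subgroup.centralizer {q 3} := fun x hx => by rwa [show x = 0 by omega]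
  have hh := LT.forall_node (P := fun w => evalW q w ∈ Subgroup.centralizer {q 3}) (l := .leaf []) (r := .leaf _)
    (fun _ => Subgroup.one_mem _) fun _ => a2
  have a3 : evalW q zeta ∈ _ := ub_mem0 hi hr hH hh
  have a4 : evalW q (appL [1, 1, 1, 0, 1, 0, 1] (appL zeta (invW ue_inv [1, 1, 1, 0, 1, 0, 1]))) ∈ _ :=
    ub_mem1 hi hr hH hh
  have a5 := hZ (3 :: powW 3 (appL (invW ue_inv [1, 1, 1, 0, 1, 0, 1]) (3 :: appL [1, 1, 1, 0, 1, 0, 1] [0])))
    (by decide +kernel)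
  have a6 : evalW q zeta = evalW q (0 :: appL (invW ue_inv [2, 2, 0, 1, 0, 1, 0, 2, 2])
    (0 :: [2, 2, 0, 1, 0, 1, 0, 2, 2])) := rfl
  rw [evalW_appL, evalW_appL, hw _ rfl, Subgroup.mem_centralizer_singleton_iff] at a4
  rw [evalW_cons, evalW_powW, evalW_appL, hw _ rfl, evalW_cons q 3, evalW_appL, evalW_cons q 0 [], evalW_nil, mul_one,
    ← mul_assoc, ← mul_assoc] at a5
  rw [evalW_cons, evalW_appL, hw _ rfl, evalW_cons q 0, ← mul_assoc, ← mul_assoc] at a6
  rw [Subgroup.mem_centralizer_singleton_iff] at a3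
  have a7 : evalW q (appL zeta zeta) = 1 := by
    rw [evalW_appL, a6]
    refine sq_of_inverted hx (a6 ▸ a3.symm) ?_ a5
    rw [← a6]
    generalize evalW q [1, 1, 1, 0, 1, 0, 1] = u at a4
    calc _ = u⁻¹ * (q 3 * (u * (evalW q zeta * u⁻¹))) * u := by group
      _ = _ := by rw [← a4]; group
  exact uc_mem0 (H := ⊥) hi (hrels_of_relTest hi (W := appL zeta zeta :: W0)
    (List.forall_mem_cons.2 ⟨a7, h0⟩) (by decide +kernel)) (by simp) (leaf_nil_mem _ _)

theorem boundQ : Nat.card (genLt q 4) ≠ 0 ∧ Nat.card (genLt q 4) ≤ 352 * (31500 * 8) := by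
  have hi : ∀ x < 3, q x * q (ud_inv x) = 1 := fun x hx => by
    rw [show ud_inv x = ue_inv x by interval_cases x <;> rfl]
    exact hinv x (by omega)
  have h1 := zeta_eq_one hinv h0 hZ
  have h2 : evalW q [0, 1] ^ 8 = 1 := by rw [← evalW_powW]; exact h0 _ (by decide +kernel)
  refine card_le_of_relIndex (genLt_mono q (by decide)) (ue_bound hinv (hrels_of_relTest hinv (W := zeta :: (W0 ++ WZ))
    (List.forall_mem_cons.2 ⟨h1, List.forall_mem_append.2 ⟨h0, hZ⟩⟩) (by decide +kernel)) (fun _ => mem_genLt q)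
    (leaf_nil_mem _ _)) (card_le_of_relIndex (H := Subgroup.zpowers (evalW q [0, 1]))
      (Subgroup.zpowers_le.2 (evalW_mem_genLt q rfl)) (ud_bound hi (hrels_of_relTest hi (W := zeta :: W0)
        (List.forall_mem_cons.2 ⟨h1, h0⟩) (by decide +kernel)) (by simp) (LT.forall_node
          (P := fun w => evalW q w ∈ Subgroup.zpowers (evalW q [0, 1])) (l := .leaf []) (r := .leaf _)
          (fun _ => Subgroup.one_mem _) fun _ => Subgroup.mem_zpowers _)) ?_)
  rw [Nat.card_zpowers]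
  exact ⟨(isOfFinOrder_iff_pow_eq_one.2 ⟨8, by decide, h2⟩).orderOf_pos.ne', orderOf_le_of_pow_eq_one (by decide) h2⟩

end

/-- The group `2.HS.2`, presented on the letters `x, x⁻¹, y, y⁻¹, z, z⁻¹`. -/
abbrev HH : Type := WQ RH 6

/-- The letters of `HH`. -/
noncomputable def g0 : ℕ → HH := wqG RH 6

theorem rel (w : List ℕ) (h : memLT RH w = true := by decide +kernel) : evalW g0 w = 1 := by
  obtain ⟨j, rfl⟩ := exists_get_of_memLT h
  exact wq_rels RH 6 j

theorem top0 : genLt g0 6 = ⊤ := wq_top RH 6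

theorem x_inv : g0 1 = (g0 0)⁻¹ := eq_inv_of_mul_eq_one_right (by simpa using rel [0, 1])
theorem y_inv : g0 3 = (g0 2)⁻¹ := eq_inv_of_mul_eq_one_right (by simpa using rel [2, 3])
theorem z_inv : g0 5 = (g0 4)⁻¹ := eq_inv_of_mul_eq_one_right (by simpa using rel [4, 5])
theorem z_sq : g0 4 * g0 4 = 1 := by simpa using rel [4, 4]

theorem a_sq : g0 0 * g0 0 * (g0 0 * g0 0) = 1 := by
  simpa [mul_assoc] using ua_mem0 (H := ⊥) (g := g0) (hinv_of_tree (wq_rels RH 6) (by decide +kernel))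
    (rels_of_subtree (wq_rels RH 6) (by decide +kernel)) (by simp) (leaf_nil_mem _ _)

theorem a_central (y : HH) : y * (g0 0 * g0 0) = g0 0 * g0 0 * y := by
  have h1 : Commute (g0 2) (g0 0 * g0 0) := by
    have h := rel [0, 0, 2, 0, 0, 3]
    simp only [evalW_cons, evalW_nil, mul_one, y_inv, ← mul_assoc, mul_inv_eq_one] at h
    calc _ = g0 0 * g0 0 * g0 2 * g0 0 * g0 0 * (g0 0 * g0 0) := by rw [h]
      _ = _ := by rw [mul_assoc _ (g0 0) (g0 0), mul_assoc _ _ (g0 0 * g0 0), a_sq, mul_one]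
  have h2 : Commute (g0 4) (g0 0 * g0 0) := by
    have h : SemiconjBy (g0 4) (g0 0) (g0 0)⁻¹ := by
      have h := rel [4, 0, 4, 0]
      simp only [evalW_cons, evalW_nil, mul_one] at h
      rw [← mul_assoc, mul_eq_one_iff_eq_inv, mul_inv_rev, inv_eq_of_mul_eq_one_left z_sq] at h
      exact h
    have h3 := h.mul_right h
    rwa [← mul_inv_rev, inv_eq_of_mul_eq_one_left a_sq] at h3
  have h3 : Commute (g0 0) (g0 0 * g0 0) := (Commute.refl _).mul_right (Commute.refl _)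
  have h4 : genLt g0 6 ≤ Subgroup.centralizer {g0 0 * g0 0} := genLt_le fun x hx => by
    rw [Subgroup.mem_centralizer_singleton_iff]
    interval_cases x
    exacts [h3, x_inv ▸ h3.inv_left, h1, y_inv ▸ h1.inv_left, h2, z_inv ▸ h2.inv_left]
  exact Subgroup.mem_centralizer_singleton_iff.1 (h4 (top0.ge trivial))

theorem ubH : Nat.card HH ≠ 0 ∧ Nat.card HH ≤ 177408000 := by
  let Z := Subgroup.zpowers (g0 0 * g0 0)
  have : Z.Normal := ⟨by
    rintro _ ⟨k, rfl⟩ y
    rw [(Commute.zpow_right (a_central y) k).eq, mul_inv_cancel_right]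
    exact ⟨k, rfl⟩⟩
  let q : ℕ → HH ⧸ Z := fun j => QuotientGroup.mk' Z (g0 (getP 8 255 0x04030200 j))
  have hx : q 0 * q 0 = 1 := (QuotientGroup.eq_one_iff _).2 (Subgroup.mem_zpowers _)
  have h1 : ∀ x < 6, QuotientGroup.mk' Z (g0 x) = q (getP 8 255 0x030302010000 x) := fun x hx6 => by
    interval_cases x
    · rfl
    · rw [x_inv, map_inv]; exact inv_eq_of_mul_eq_one_left hx
    · rfl
    · rfl
    · rfl
    · rw [z_inv, inv_eq_of_mul_eq_one_left z_sq]; rfl
  have h2 : ∀ w, memLT RH w = true → evalW q (w.map (getP 8 255 0x030302010000)) = 1 := fun w hw => by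
    have h3 := congrArg (QuotientGroup.mk' Z) (rel w hw)
    obtain ⟨j, rfl⟩ := exists_get_of_memLT hw
    rw [map_evalW, map_one, evalW_congr fun x hx => h1 x ((lettersLt_iff _ _).1
      (LT.all_get (show RH.all (lettersLt 6) = true by decide +kernel) j) x hx)] at h3
    simpa [evalW, Function.comp_def] using h3
  have h3 := boundQ (q := q) (fun x hx4 => by
      interval_cases x
      exacts [hx, by simpa using (show evalW q [1, ue_inv 1] = 1 from h2 [2, 3] (by decide +kernel)),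
        by simpa using (show evalW q [2, ue_inv 2] = 1 from h2 [3, 2] (by decide +kernel)),
        by simpa using (show evalW q [3, ue_inv 3] = 1 from h2 [4, 4] (by decide +kernel))])
    (by
      simp only [W0, List.forall_mem_cons, List.not_mem_nil, false_imp_iff, implies_true, and_true]
      exact ⟨h2 (RH.get 0) (by decide +kernel), h2 (RH.get 2) (by decide +kernel), h2 (RH.get 3) (by decide +kernel),
        h2 (RH.get 4) (by decide +kernel), h2 (RH.get 5) (by decide +kernel)⟩)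
    (by
      simp only [WZ, List.forall_mem_cons, List.not_mem_nil, false_imp_iff, implies_true, and_true]
      refine ⟨h2 (RH.get 7) (by decide +kernel), ?_, h2 (RH.get 9) (by decide +kernel)⟩
      have h4 : evalW q ([3, 1, 0, 2, 2, 0, 2, 0, 2, 3, 1, 0, 1, 0, 1, 1, 0, 2] ++ [0, 0]) = 1 := h2 (RH.get 8) (by decide +kernel)
      rwa [evalW_append, evalW_cons q 0 [0], evalW_cons q 0 [], evalW_nil, mul_one, hx, mul_one] at h4)
  have h4 : genLt q 4 = ⊤ := by
    rw [eq_top_iff, ← Subgroup.map_top_of_surjective _ (QuotientGroup.mk'_surjective Z), ← top0,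
      map_genLt (p := fun x => q (getP 8 255 0x030302010000 x)) _ h1]
    exact genLt_le fun x hx => mem_genLt q (by interval_cases x <;> decide)
  rw [h4, Subgroup.card_top] at h3
  have h5 : (g0 0 * g0 0) ^ 2 = 1 := by rw [pow_two, a_sq]
  rw [Subgroup.card_eq_card_quotient_mul_card_subgroup Z, Nat.card_zpowers]
  exact ⟨mul_ne_zero h3.1 (isOfFinOrder_iff_pow_eq_one.2 ⟨2, by decide, h5⟩).orderOf_pos.ne',
    (Nat.mul_le_mul h3.2 (orderOf_le_of_pow_eq_one (by decide) h5)).trans (by decide)⟩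

end Cfsg.Agent.Spor.MHN
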