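import Mathlib
import Cfsg.Agent.Spor.HN.Ub
import Cfsg.Agent.Spor.HN.Chk0
import Cfsg.Agent.Spor.HN.Chk1
import Cfsg.Agent.Spor.HN.Chk2
import Cfsg.Agent.Spor.HN.Chk3
import Cfsg.Agent.Spor.HN.Chk4
import Cfsg.Agent.Spor.HN.Chk5

/-! Generated by tools/dc: the action of 2.HS.2 on 1408 points and the double coset table -/

set_option autoImplicit false
set_option maxRecDepth 100000
set_option linter.unusedVariables false
set_option exponentiation.threshold 100000

namespace Cfsg.Agent.Spor.MHN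

open Cfsg.Agent.Spor Cfsg.Agent.Spor.DC

theorem tabsP : Tabs (finE 1408) 1408 T (fun x => permOf 1408 (T x)) 6 := tabs_permOf ((allLt_iff _ _).1 invc)

theorem exHom0 : ∃ φ : HH →* Equiv.Perm (Fin 1408), ∀ x < 6, φ (g0 x) = permOf 1408 (T x) :=
  wq_hom (by decide +kernel) (tabsP.rels_of_faithful (fun a _ h => finE_faithful a h) relc)

/-- The action of `HH` on 1408 points. -/
noncomputable instance actH : MulAction HH (Fin 1408) := MulAction.compHom _ exHom0.choose

/-- The letters. -/
noncomputable def g : ℕ → HH := slp g0 6 defs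

theorem tabs : Tabs (finE 1408) 1408 T g 141 :=
  ((((((tabs_compHom _ tabsP exHom0.choose_spec).slp_base defs).slp_add (by decide) 48 slp6).slp_add (by decide) 42 slp54).slp_add (by decide) 40 slp96).slp_add (by decide) 5 slp136)

instance finH : Finite HH := Nat.finite_of_card_ne_zero ubH.1

theorem g_lt {x : ℕ} (h : x < 6) : g x = g0 x := slp_lt _ _ h

theorem g_def (x : ℕ) (w : List ℕ) (h : band (band (Nat.ble 6 x) (lettersLt x w)) (beqL (defs.get x) (0 :: w)) = true := by
    decide +kernel) : g x = evalW g w := by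
  simp only [band_iff, Nat.ble_eq] at h
  have h1 := slp_ge g0 defs h.1.1 (by rw [eq_of_beqL h.2]; exact h.1.2)
  rw [eq_of_beqL h.2, if_pos (show hdL (0 :: w) = 0 from rfl), zpow_one] at h1
  exact h1

theorem top6 : genR g 0 6 = ⊤ := by
  rw [genR_zero, eq_top_iff, ← top0]
  exact genLt_le fun x hx => g_lt hx ▸ mem_genLt g hx

theorem top : genLt g 141 = ⊤ := by
  rw [eq_top_iff, ← top6, genR_zero]
  exact genLt_mono g (by decide)

theorem rg (lo k hi : ℕ) (h : rangeOK defs 6 lo k hi = true := by decide +kernel) : RangeIn g lo hi (genR g lo k) :=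
  rangeIn_slp g0 h

theorem low0 : LowLevel (genR g 0 6) (genR g 15 2) ((finE 1408) 0) 1408 :=
  lowLevel tabs (finE_injOn 1408) (E := M.S 0 0) (rg 0 6 42) (by decide +kernel)

theorem low1 : LowLevel (genR g 15 2) (genR g 27 2) ((finE 1408) 25) 50 :=
  lowLevel tabs (finE_injOn 1408) (E := M.S 0 1) (rg 15 2 42) (by decide +kernel)

theorem low2 : LowLevel (genR g 27 2) (genR g 39 2) ((finE 1408) 57) 252 :=
  lowLevel tabs (finE_injOn 1408) (E := M.S 0 2) (rg 27 2 42) (by decide +kernel)

theorem low3 : LowLevel (genR g 39 2) (genR g 42 0) ((finE 1408) 1) 10 :=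
  lowLevel tabs (finE_injOn 1408) (E := M.S 0 3) (rg 39 2 42) (by decide +kernel)

theorem lb3 (h : Finite (genR g 39 2)) : 10 * 1 ≤ Nat.card (genR g 39 2) := low3.card h (one_le_card_fin _)

theorem lb2 (h : Finite (genR g 27 2)) : 252 * (10 * 1) ≤ Nat.card (genR g 27 2) := low2.card h lb3

theorem lb1 (h : Finite (genR g 15 2)) : 50 * (252 * (10 * 1)) ≤ Nat.card (genR g 15 2) := low1.card h lb2

theorem lev0 : Level (genR g 0 6) (genR g 15 2) ((finE 1408) 0) 1408 ∧
    Nat.card (genR g 15 2) ≠ 0 ∧ Nat.card (genR g 15 2) ≤ 50 * (252 * (10 * 1)) :=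
  low0.level (by rw [top6, Subgroup.card_top]; exact ubH) lb1

theorem lev1 : Level (genR g 15 2) (genR g 27 2) ((finE 1408) 25) 50 ∧
    Nat.card (genR g 27 2) ≠ 0 ∧ Nat.card (genR g 27 2) ≤ 252 * (10 * 1) :=
  low1.level lev0.2 lb2

theorem lev2 : Level (genR g 27 2) (genR g 39 2) ((finE 1408) 57) 252 ∧
    Nat.card (genR g 39 2) ≠ 0 ∧ Nat.card (genR g 39 2) ≤ 10 * 1 :=
  low2.level lev1.2 lb3

theorem lev3 : Level (genR g 39 2) (genR g 42 0) ((finE 1408) 1) 10 ∧
    Nat.card (genR g 42 0) ≠ 0 ∧ Nat.card (genR g 42 0) ≤ 1 :=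
  low3.level lev2.2 (one_le_card_fin _)

theorem base : IsBase (finE 1408) (⊤ : Subgroup HH) B :=
  top6 ▸ lev0.1.base (lev1.1.base (lev2.1.base (lev3.1.base (isBase_genLt_zero _ _))))

theorem ctx : Ctx (finE 1408) 1408 T g 141 inv B :=
  ⟨tabs, (finE_injOn 1408), tabs.hinv_of_base (base.mono le_top) (by decide +kernel),
    fun x hx => (blt_iff _ _).1 ((allLt_iff _ _).1 (show allLt 141 (fun x => blt (inv x) 141) = true by decide +kernel) x hx),
    base, by decide +kernel⟩

theorem card1 : Nat.card (genR g 15 2) = 126000 := lev1.1.card (lev2.1.card (lev3.1.card (card_genR_zero g 42)))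

theorem card0 : Nat.card (genR g 0 6) = 177408000 := lev0.1.card card1

theorem cardH : Nat.card HH = 177408000 := card_of_top top6 card0

theorem levU : Level ⊤ (genR g 15 2) ((finE 1408) 0) 1408 := top6 ▸ lev0.1

theorem lv2_0 : Level (genR g 42 2) (genR g 48 2) ((finE 1408) 0) 32 :=
  ctx.level (rg 42 2 59) (fun _ hw h => ctx.memK (by decide) (rg 48 2 59) hw h) (by decide +kernel) ss2_0

theorem lv2_1 : Level (genR g 48 2) (genR g 56 2) ((finE 1408) 57) 252 :=
  ctx.level (rg 48 2 59) (fun _ hw h => ctx.memK (by decide) (rg 56 2 59) hw h) (by decide +kernel) ss2_1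

theorem lv2_2 : Level (genR g 56 2) (genR g 59 0) ((finE 1408) 1) 10 :=
  ctx.level (rg 56 2 59) (fun _ hw h => ctx.memK (by decide) (rg 59 0 59) hw h) (by decide +kernel) ss2_2

theorem card2 : Nat.card (genR g 42 2) = 80640 := (lv2_0.card (lv2_1.card (lv2_2.card (card_genR_zero g 59))))

theorem lv3_0 : Level (genR g 59 2) (genR g 63 2) ((finE 1408) 0) 2 :=
  ctx.level (rg 59 2 74) (fun _ hw h => ctx.memK (by decide) (rg 63 2 74) hw h) (by decide +kernel) ss3_0

theorem lv3_1 : Level (genR g 63 2) (genR g 71 2) ((finE 1408) 57) 252 :=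
  ctx.level (rg 63 2 74) (fun _ hw h => ctx.memK (by decide) (rg 71 2 74) hw h) (by decide +kernel) ss3_1

theorem lv3_2 : Level (genR g 71 2) (genR g 74 0) ((finE 1408) 1) 10 :=
  ctx.level (rg 71 2 74) (fun _ hw h => ctx.memK (by decide) (rg 74 0 74) hw h) (by decide +kernel) ss3_2

theorem card3 : Nat.card (genR g 59 2) = 5040 := (lv3_0.card (lv3_1.card (lv3_2.card (card_genR_zero g 74))))

theorem lv4_0 : Level (genR g 74 2) (genR g 78 2) ((finE 1408) 0) 4 :=
  ctx.level (rg 74 2 88) (fun _ hw h => ctx.memK (by decide) (rg 78 2 88) hw h) (by decide +kernel) ss4_0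

theorem lv4_1 : Level (genR g 78 2) (genR g 82 2) ((finE 1408) 25) 6 :=
  ctx.level (rg 78 2 88) (fun _ hw h => ctx.memK (by decide) (rg 82 2 88) hw h) (by decide +kernel) ss4_1

theorem lv4_2 : Level (genR g 82 2) (genR g 88 0) ((finE 1408) 57) 60 :=
  ctx.level (rg 82 2 88) (fun _ hw h => ctx.memK (by decide) (rg 88 0 88) hw h) (by decide +kernel) ss4_2

theorem card4 : Nat.card (genR g 74 2) = 1440 := (lv4_0.card (lv4_1.card (lv4_2.card (card_genR_zero g 88))))

theorem lv5_0 : Level (genR g 88 2) (genR g 92 3) ((finE 1408) 0) 2 :=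
  ctx.level (rg 88 2 102) (fun _ hw h => ctx.memK (by decide) (rg 92 3 102) hw h) (by decide +kernel) ss5_0

theorem lv5_1 : Level (genR g 92 3) (genR g 98 2) ((finE 1408) 25) 25 :=
  ctx.level (rg 92 3 102) (fun _ hw h => ctx.memK (by decide) (rg 98 2 102) hw h) (by decide +kernel) ss5_1

theorem lv5_2 : Level (genR g 98 2) (genR g 101 1) ((finE 1408) 57) 5 :=
  ctx.level (rg 98 2 102) (fun _ hw h => ctx.memK (by decide) (rg 101 1 102) hw h) (by decide +kernel) ss5_2

theorem lv5_3 : Level (genR g 101 1) (genR g 102 0) ((finE 1408) 1) 2 :=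
  ctx.level (rg 101 1 102) (fun _ hw h => ctx.memK (by decide) (rg 102 0 102) hw h) (by decide +kernel) ss5_3

theorem card5 : Nat.card (genR g 88 2) = 500 := (lv5_0.card (lv5_1.card (lv5_2.card (lv5_3.card (card_genR_zero g 102)))))

theorem lv6_0 : Level (genR g 102 2) (genR g 105 2) ((finE 1408) 0) 2 :=
  ctx.level (rg 102 2 115) (fun _ hw h => ctx.memK (by decide) (rg 105 2 115) hw h) (by decide +kernel) ss6_0

theorem lv6_1 : Level (genR g 105 2) (genR g 109 2) ((finE 1408) 25) 2 :=
  ctx.level (rg 105 2 115) (fun _ hw h => ctx.memK (by decide) (rg 109 2 115) hw h) (by decide +kernel) ss6_1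

theorem lv6_2 : Level (genR g 109 2) (genR g 114 1) ((finE 1408) 57) 30 :=
  ctx.level (rg 109 2 115) (fun _ hw h => ctx.memK (by decide) (rg 114 1 115) hw h) (by decide +kernel) ss6_2

theorem lv6_3 : Level (genR g 114 1) (genR g 115 0) ((finE 1408) 1) 2 :=
  ctx.level (rg 114 1 115) (fun _ hw h => ctx.memK (by decide) (rg 115 0 115) hw h) (by decide +kernel) ss6_3

theorem card6 : Nat.card (genR g 102 2) = 240 := (lv6_0.card (lv6_1.card (lv6_2.card (lv6_3.card (card_genR_zero g 115)))))

theorem lv7_0 : Level (genR g 115 2) (genR g 123 2) ((finE 1408) 0) 160 :=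
  ctx.level (rg 115 2 126) (fun _ hw h => ctx.memK (by decide) (rg 123 2 126) hw h) (by decide +kernel) ss7_0

theorem lv7_1 : Level (genR g 123 2) (genR g 125 1) ((finE 1408) 25) 2 :=
  ctx.level (rg 123 2 126) (fun _ hw h => ctx.memK (by decide) (rg 125 1 126) hw h) (by decide +kernel) ss7_1

theorem lv7_2 : Level (genR g 125 1) (genR g 126 0) ((finE 1408) 57) 2 :=
  ctx.level (rg 125 1 126) (fun _ hw h => ctx.memK (by decide) (rg 126 0 126) hw h) (by decide +kernel) ss7_2

theorem card7 : Nat.card (genR g 115 2) = 640 := (lv7_0.card (lv7_1.card (lv7_2.card (card_genR_zero g 126))))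

theorem lv8_0 : Level (genR g 126 2) (genR g 134 2) ((finE 1408) 0) 1280 :=
  ctx.level (rg 126 2 141) (fun _ hw h => ctx.memK (by decide) (rg 134 2 141) hw h) (by decide +kernel) ss8_0

theorem lv8_1 : Level (genR g 134 2) (genR g 138 2) ((finE 1408) 25) 2 :=
  ctx.level (rg 134 2 141) (fun _ hw h => ctx.memK (by decide) (rg 138 2 141) hw h) (by decide +kernel) ss8_1

theorem lv8_2 : Level (genR g 138 2) (genR g 141 0) ((finE 1408) 57) 12 :=
  ctx.level (rg 138 2 141) (fun _ hw h => ctx.memK (by decide) (rg 141 0 141) hw h) (by decide +kernel) ss8_2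

theorem card8 : Nat.card (genR g 126 2) = 30720 := (lv8_0.card (lv8_1.card (lv8_2.card (card_genR_zero g 141))))

/-- The lengths of the orbits of `HH`. -/
def idx (i : ℕ) : ℕ := [1, 1408, 2200, 35200, 123200, 354816, 739200, 277200, 5775].getD i 0

theorem hidx : ∀ i < M.N, (M.K g i).index = idx i := by
  have h : ∀ (K : Subgroup HH) (c k : ℕ), Nat.card K = c → k * c = 177408000 → K.index = k := fun K c k h1 h2 => by
    have h3 := K.index_mul_card
    rw [h1, cardH, ← h2] at h3
    exact Nat.eq_of_mul_eq_mul_right (Nat.pos_of_ne_zero (by rintro rfl; simp at h2)) h3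
  show ∀ i < 9, _
  intro i hi
  interval_cases i
  exacts [h _ _ _ card0 rfl, h _ _ _ card1 rfl, h _ _ _ card2 rfl, h _ _ _ card3 rfl, h _ _ _ card4 rfl, h _ _ _ card5 rfl, h _ _ _ card6 rfl, h _ _ _ card7 rfl, h _ _ _ card8 rfl]

instance neN : NeZero M.N := ⟨by decide⟩

/-- The diagonal of the stabiliser of the point 0. -/
noncomputable abbrev LL : Subgroup (HH × HH) := diagS HH ((finE 1408) 0)

theorem ok : M.OK (finE 1408) 1408 T g 141 inv B LL (thS T 0) 0 where
  ctx := ctx
  top := top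
  hth := thSpec_thS tabs (by decide)
  hω := by decide
  L1 := fun y hy => ⟨y, rfl, hy⟩
  L2 := fun _ hk => hk.2
  L3 := fun _ hz => hz.1.symm
  range := fun i hi => rangeIn_slp g0 ((allLt_iff _ _).1
    (show allLt M.N (fun i => rangeOK defs 6 (M.lo i) (M.k i) (M.hi i)) = true by decide +kernel) i hi)
  bds := by decide +kernel
  roots := rootc
  wd := by
    show ∀ i < 9, _
    intro i hi
    interval_cases i
    exacts [wd0, wd1, wd2, wd3, wd4, wd5, wd6, wd7, wd8]

/-- The big set. -/
abbrev X : Type := XX (M.K g) M.N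

theorem cardX : Nat.card X = 1539000 := by
  rw [card_XX, Finset.sum_congr rfl fun i hi => hidx i (Finset.mem_range.1 hi)]
  decide +kernel

theorem relA : ∀ x : X, appF g 141 (M.tf g LL) [141, 6, 141, 6] x = x := ok.rel0 levU.eq_stabilizer.ge relAc

theorem relB : ∀ x : X, appF g 141 (M.tf g LL) [141, 141, 141, 141, 141] x = x := ok.rel0 levU.eq_stabilizer.ge relBc

theorem relC : ∀ x : X, appF g 141 (M.tf g LL) [141, 141, 0, 141, 1] x = x := ok.rel0 levU.eq_stabilizer.ge relCc

theorem relD : ∀ x : X, appF g 141 (M.tf g LL) [141, 4, 141, 4, 141, 4] x = x :=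
  ok.rel1 levU.eq_stabilizer.ge lev1.1 (rg 15 2 42) (by decide +kernel)
    (allRange_join (allRange_join (allRange_join (allRange_join (allRange_join (allRange_join (allRange_join (allRange_join (allRange_join relD0 relD1) relD2) relD3) relD4) relD5) relD6) relD7) relD8) relD9)

end Cfsg.Agent.Spor.MHN
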