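import Mathlib
import Cfsg.Agent.Spor.Comp.Pres

/-! Generated by tools/pg: stabiliser chain hs -/

set_option autoImplicit false
set_option maxRecDepth 100000
set_option linter.unusedVariables false
set_option exponentiation.threshold 100000

namespace Cfsg.Agent.Spor.MHN

open Cfsg.Agent.Spor

noncomputable def hs_S_t0 : BT :=
(.node (.node (.node (.node (.node (.leaf (nat_lit 0xc3831e2ab52c52b56e6ddad5efde8171ec688e2cb76cd18c38b423cf90e96d364aa8af6b0974e992ddca38fe49978e609a46f8b243c54a285648f91429c7b31cb180c16a532510890093a6c2982e0c81308086871418001))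
 (.leaf (nat_lit 0x3381862bf302ce1e76c8dad5eab744e13b979726de6c324c88eba2af867c8927ef8f4f7686852a92da9828c98e1891902c2aa9216a28ce294d4dd2d84f6d25166b1b41ca15b32702090b65ec4a36284880e1ae840608080))
) (.leaf (nat_lit 0xb37ade375766bb1f157d27242ad4b8091989e7d158223820138819b64ca4a5a16218864858644c2a8f56337d4371afa4ad9c565b558ba50513899517ef4dd735060344a85c1d79301d0602b047565e3430f229a78448980))
) (.node (.leaf (nat_lit 0xc3831e2bf52c52b56ecddad5eadea7728bc72e26b76cd24c88ebe2ae86b5d4058eded07d067ce992d54a66698998d1213f2cd51954e912a6528889f407879c36c980c2ead41426490863a38298162810802406800624384))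
 (.leaf (nat_lit 0x4ed1845c26453ea9560d36729fc8088d7aab696c2916428b25a3b11f9925152882509310d5038500cb15b33ef86492d356584b1ba8776342355de50b47af140e15dcd5cdf0111ee5b2b7a30bce1b1cd9db8c60183808080))
)) (.node (.node (.leaf (nat_lit 0xc772ed9bf8a9dec35304c95161409362dcba169bbe9f5e8b091117c6ad06aab9ca692a4ab514d408589b68e4d47310cbbb7e59ea678a1d136491c362049a8f6634eae582938b461cf9e0c70c890654214220470c0020282))
 (.leaf (nat_lit 0x32149899110515be76ec667824e123413d67ab11bf4d031b5217271f857910e5ead0b298c03ca2d34794b2dde4f10f9cd382728d4b4955248eb9d1786a14cb08d011234c46a03c322b6b62ec62715e93b3618c2d0754080))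
) (.node (.leaf (nat_lit 0xa33b0dcbea6ee07b6ac975d19dbca6e31a36f883a42a6dfc835584af87092ad92fadd4aae93529eac9b466c8330895e02c6caaf1632e60cca0890923e3ce91951d398b0a25946a80e103c3470b182a2889ac42830808080))
 (.leaf (nat_lit 0xc65d80ebe7e915b692c91af5a4d4a7753927aae6c24a52ab554ba2c411306b97eb279e765a0056e7241b184d8e15f196be9d1cea1a29a5da4689420bcf14b66828c8bc4eae4a6542c101f820b330682430e19c090608080))
))) (.node (.node (.node (.leaf (nat_lit 0xc3831e2ab52c52b56e6ddad5efde8171ec688e2cb76cd18c38b423cf90e96d364aa8af6b0974e992ddca38fe49978e609a46f8b243c54a285648f91429c7b31cb180c16a532510890093a6c2982e0c81308086871418001))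
 (.leaf (nat_lit 0x9232a56b70acc61e9d98d154012858254d26115b3b38e2adf47608de3f0d5ca98ba7b1108568b644241aaef0b3a7e8824e7c94e9ea32d3249b05e94884ed2a0e5f18540dee34c2629c76b00a921d7702f721b11b0664080))
) (.node (.leaf (nat_lit 0xc3831e2bf52c52b56ecddad5eadea7728bc72e26b76cd24c88ebe2ae86b5d4058eded07d067ce992d54a66698998d1213f2cd51954e912a6528889f407879c36c980c2ead41426490863a38298162810802406800624384))
 (.leaf (nat_lit 0x11818870d3169b1e7471883717cf284ad39795e5bb4ab21db46ba355927d9b884d09b7bcf501a5135a8d44e9861c71680c94a9216531c8514c2d9057e853b6a74a23eb3504913c2ab1c905c2159d01599c57eed80608080))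
)) (.node (.node (.leaf (nat_lit 0xc77add9bf730e2a33b052950e0dabaf64cf96fdc58a15e9c76112b465d5615457314a758959219a80eb3368dac88a61d1780f1f262aa1da226e5b372240c8e68c46af5aa8508487839f3814d042858602243c0891600303))
 (.leaf (nat_lit 0x5316f9562753079e7d9cd44b2d5bb1024a06430c435d5a154149703f4e92c85ab707a132a09382c45d62af20361a25e3ab2142637c6b672fa505eb98878403128ef041ad5a1c78a8a4a271858e9775f3b36c0d536c08080))
) (.node (.leaf (nat_lit 0xc089b8d658af53c3031cc38d2ad40b610109eaee9252956861826d38100cd193eb8f13b97eb9561114188a85e8fb29962716da131090cbbba334b469cd4a473a6d9d014e9541020a5d6b7297b97e391be0ef1249234a400))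
 (.leaf (nat_lit 0x5e1d8620cec2d69144b849c46216366922da82db5e9aae18f4d1571992feb8a3e61d4f98ca8407871abe82870b1ab1aeca12a93b73a8e5a98eccf39844ed10b8e04581ca06537b48a25b765a2c4448ae3c17d00d0608080))
))))

noncomputable def hs_S_t : BT :=
hs_S_t0

noncomputable def hs_S : ℕ → ℕ → ℕ := fun x i => Nat.land (Nat.shiftRight (BT.get hs_S_t x) (Nat.mul (nat_lit 7) i)) (nat_lit 127)

noncomputable def hs_defs : LT :=
(.node (.node (.node (.node (.node (.leaf [nat_lit 0])
 (.leaf [nat_lit 0,nat_lit 14,nat_lit 13,nat_lit 13,nat_lit 14,nat_lit 13,nat_lit 14,nat_lit 15])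
) (.leaf [nat_lit 1,nat_lit 7])
) (.node (.leaf [nat_lit 0])
 (.leaf [nat_lit 1,nat_lit 11])
)) (.node (.node (.leaf [nat_lit 0])
 (.leaf [nat_lit 1,nat_lit 9])
) (.node (.leaf [nat_lit 0,nat_lit 3,nat_lit 3,nat_lit 4,nat_lit 2,nat_lit 2])
 (.leaf [nat_lit 0,nat_lit 11,nat_lit 11,nat_lit 6,nat_lit 12,nat_lit 12])
))) (.node (.node (.node (.leaf [nat_lit 0])
 (.leaf [nat_lit 0,nat_lit 7,nat_lit 6,nat_lit 7,nat_lit 6,nat_lit 7,nat_lit 7,nat_lit 6,nat_lit 8,nat_lit 6,nat_lit 8,nat_lit 8,nat_lit 6,nat_lit 8,nat_lit 6,nat_lit 8])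
) (.node (.leaf [nat_lit 0])
 (.leaf [nat_lit 0,nat_lit 12,nat_lit 12,nat_lit 6,nat_lit 12])
)) (.node (.node (.leaf [nat_lit 0])
 (.leaf [nat_lit 0,nat_lit 9,nat_lit 6,nat_lit 9,nat_lit 9,nat_lit 6,nat_lit 10,nat_lit 10])
) (.node (.leaf [nat_lit 0,nat_lit 2,nat_lit 2,nat_lit 1,nat_lit 3,nat_lit 0,nat_lit 3,nat_lit 0,nat_lit 2,nat_lit 0])
 (.leaf [nat_lit 1,nat_lit 13])
))))
noncomputable def hs_iota : ℕ → ℕ := getP (nat_lit 8) (nat_lit 255) (nat_lit 0x5040302010008070a09060e0f0d10)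
noncomputable def hs_inv : ℕ → ℕ := getP (nat_lit 8) (nat_lit 255) (nat_lit 0xd0e0b0c090a070805060403010200)
noncomputable def hs_hws : LT := .leaf []

noncomputable def hs_T_t0 : BT :=
(.node (.node (.node (.node (.leaf (nat_lit 0x3381862bf302ce1e76c8dad5eab744e13b979726de6c324c88eba2af867c8927ef8f4f7686852a92da9828c98e1891902c2aa9216a28ce294d4dd2d84f6d25166b1b41ca15b32702090b65ec4a36284880e1ae840608080))
 (.leaf (nat_lit 0xb37ade375766bb1f157d27242ad4b8091989e7d158223820138819b64ca4a5a16218864858644c2a8f56337d4371afa4ad9c565b558ba50513899517ef4dd735060344a85c1d79301d0602b047565e3430f229a78448980))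
) (.node (.leaf (nat_lit 0xa33b0dcbea6ee07b6ac975d19dbca6e31a36f883a42a6dfc835584af87092ad92fadd4aae93529eac9b466c8330895e02c6caaf1632e60cca0890923e3ce91951d398b0a25946a80e103c3470b182a2889ac42830808080))
 (.leaf (nat_lit 0xc77add9bf730e2a33b052950e0dabaf64cf96fdc58a15e9c76112b465d5615457314a758959219a80eb3368dac88a61d1780f1f262aa1da226e5b372240c8e68c46af5aa8508487839f3814d042858602243c0891600303))
)) (.node (.node (.leaf (nat_lit 0x5e1d8620cec2d69144b849c46216366922da82db5e9aae18f4d1571992feb8a3e61d4f98ca8407871abe82870b1ab1aeca12a93b73a8e5a98eccf39844ed10b8e04581ca06537b48a25b765a2c4448ae3c17d00d0608080))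
 (.leaf (nat_lit 0xc3831e2ab52c52b56e6ddad5efde8171ec688e2cb76cd18c38b423cf90e96d364aa8af6b0974e992ddca38fe49978e609a46f8b243c54a285648f91429c7b31cb180c16a532510890093a6c2982e0c81308086871418001))
) (.node (.leaf (nat_lit 0x32149899110515be76ec667824e123413d67ab11bf4d031b5217271f857910e5ead0b298c03ca2d34794b2dde4f10f9cd382728d4b4955248eb9d1786a14cb08d011234c46a03c322b6b62ec62715e93b3618c2d0754080))
 (.leaf (nat_lit 0xc3831e2bf52c52b56ecddad5eadea7728bc72e26b76cd24c88ebe2ae86b5d4058eded07d067ce992d54a66698998d1213f2cd51954e912a6528889f407879c36c980c2ead41426490863a38298162810802406800624384))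
))) (.node (.node (.node (.leaf (nat_lit 0x11818870d3169b1e7471883717cf284ad39795e5bb4ab21db46ba355927d9b884d09b7bcf501a5135a8d44e9861c71680c94a9216531c8514c2d9057e853b6a74a23eb3504913c2ab1c905c2159d01599c57eed80608080))
 (.leaf (nat_lit 0xc3831e2ab52c52b56e6ddad5efde8171ec688e2cb76cd18c38b423cf90e96d364aa8af6b0974e992ddca38fe49978e609a46f8b243c54a285648f91429c7b31cb180c16a532510890093a6c2982e0c81308086871418001))
) (.node (.leaf (nat_lit 0x9232a56b70acc61e9d98d154012858254d26115b3b38e2adf47608de3f0d5ca98ba7b1108568b644241aaef0b3a7e8824e7c94e9ea32d3249b05e94884ed2a0e5f18540dee34c2629c76b00a921d7702f721b11b0664080))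
 (.leaf (nat_lit 0xc3831e2bf52c52b56ecddad5eadea7728bc72e26b76cd24c88ebe2ae86b5d4058eded07d067ce992d54a66698998d1213f2cd51954e912a6528889f407879c36c980c2ead41426490863a38298162810802406800624384))
)) (.node (.node (.leaf (nat_lit 0xc65d80ebe7e915b692c91af5a4d4a7753927aae6c24a52ab554ba2c411306b97eb279e765a0056e7241b184d8e15f196be9d1cea1a29a5da4689420bcf14b66828c8bc4eae4a6542c101f820b330682430e19c090608080))
 (.leaf (nat_lit 0xc772ed9bf8a9dec35304c95161409362dcba169bbe9f5e8b091117c6ad06aab9ca692a4ab514d408589b68e4d47310cbbb7e59ea678a1d136491c362049a8f6634eae582938b461cf9e0c70c890654214220470c0020282))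
) (.leaf (nat_lit 0xc089b8d658af53c3031cc38d2ad40b610109eaee9252956861826d38100cd193eb8f13b97eb9561114188a85e8fb29962716da131090cbbba334b469cd4a473a6d9d014e9541020a5d6b7297b97e391be0ef1249234a400))
)))

noncomputable def hs_T_t : BT :=
hs_T_t0

noncomputable def hs_T : ℕ → ℕ → ℕ := fun x i => Nat.land (Nat.shiftRight (BT.get hs_T_t x) (Nat.mul (nat_lit 7) i)) (nat_lit 127)

noncomputable def hs_E_t0 : BT :=
(.node (.node (.node (.leaf (nat_lit 0x80101a0340180d0160040a8050168330280b00982d0680ec2206405a0b00a024078110118430881701e02402814c1e05c0780302200c0780902a03403a0f43201c0181100e0240c80542d82c0880543a03d0860f41e80c0b81902a0740181900a0640460d0058340580f02e00c0c60ec1d8440e80303180b0c616c298730c61cc2d8620e41683105100))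
 (.leaf (nat_lit 0x4030000000020280300800000a020000000000100c000000010080000000000000000000001818000010080000000000000000000000003018040000000000000000503604000000000000000000000140400000000000000008060000030200000180c010000018180000000100c01806001018000000000010000000000000))
) (.leaf (nat_lit 0x60000000000001018000000010140000000000102800000002020000000000040100000181800000000003028074180000080c000000006080000000000000000000000000000006040000000000000201000608000005010000000000080a0020080000000103000000000000000000000000000000000000000000003010000000000000040000000))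
) (.node (.node (.leaf (nat_lit 0x18300060c000000006040000000000000000406000000000008060000000000000000208000000000000000000000000000180b0700101c0000080a00181800000c0e0240700000000000000000004080000000000000000201000000c0800000000000000000014000000040e000000006020000000000000000000000c200000000000080000))
 (.leaf (nat_lit 0x1000000000000000000000000000000000000000000000000000000000000000000000000000000000000000000000000000000000000000000000000000000000000000000000000000000000000000000000000000000000000000000000000000000000000000000000000000000000000000000000000008000000000000000))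
) (.leaf (nat_lit 0x140c005030000000050300000281302a0340800000c020000000000140f01000a094080000000140a0200000000201800001408000000000000000000141000401a04000000000014040060380400000000000002820000018040000000000000504a060000040280800200d0100000201e0100101180d01a0600181800c020000020420000000000))
))

noncomputable def hs_E_t : BT :=
hs_E_t0

noncomputable def hs_E : ℕ → ℕ → ℕ := fun x i => Nat.land (Nat.shiftRight (BT.get hs_E_t x) (Nat.mul (nat_lit 11) i)) (nat_lit 2047)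

theorem hs_slp0 : allLt (nat_lit 11) (fun i => force (Nat.add (nat_lit 6) i) (slpOK hs_S hs_defs (nat_lit 100))) = true := by decide +kernel

theorem hs_ren : allLt (nat_lit 15) (fun x => force (hs_iota x) fun y => band (blt y (nat_lit 17)) (allRange (nat_lit 0) (nat_lit 100) fun i => Nat.beq (hs_S y i) (hs_T x i))) = true := by decide +kernel

theorem hs_L5_o : band (allRange (nat_lit 0) (nat_lit 100) (orbOK hs_T (nat_lit 1) (hs_E (nat_lit 5)) (Nat.beq (nat_lit 5)))) (band (Nat.ble (nat_lit 2) (count2 (nat_lit 100) fun p => Nat.ble 256 (hs_E (nat_lit 5) p))) (allLt (nat_lit 0) (fun x => Nat.beq (hs_T x (nat_lit 5)) (nat_lit 5)))) = true := by decide +kernel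

theorem hs_L4_o : band (allRange (nat_lit 0) (nat_lit 100) (orbOK hs_T (nat_lit 4) (hs_E (nat_lit 4)) (Nat.beq (nat_lit 4)))) (band (Nat.ble (nat_lit 24) (count2 (nat_lit 100) fun p => Nat.ble 256 (hs_E (nat_lit 4) p))) (allLt (nat_lit 1) (fun x => Nat.beq (hs_T x (nat_lit 4)) (nat_lit 4)))) = true := by decide +kernel

theorem hs_L3_o : band (allRange (nat_lit 0) (nat_lit 100) (orbOK hs_T (nat_lit 5) (hs_E (nat_lit 3)) (Nat.beq (nat_lit 3)))) (band (Nat.ble (nat_lit 40) (count2 (nat_lit 100) fun p => Nat.ble 256 (hs_E (nat_lit 3) p))) (allLt (nat_lit 4) (fun x => Nat.beq (hs_T x (nat_lit 3)) (nat_lit 3)))) = true := by decide +kernel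

theorem hs_L2_o : band (allRange (nat_lit 0) (nat_lit 100) (orbOK hs_T (nat_lit 7) (hs_E (nat_lit 2)) (Nat.beq (nat_lit 2)))) (band (Nat.ble (nat_lit 21) (count2 (nat_lit 100) fun p => Nat.ble 256 (hs_E (nat_lit 2) p))) (allLt (nat_lit 5) (fun x => Nat.beq (hs_T x (nat_lit 2)) (nat_lit 2)))) = true := by decide +kernel

theorem hs_L1_o : band (allRange (nat_lit 0) (nat_lit 100) (orbOK hs_T (nat_lit 9) (hs_E (nat_lit 1)) (Nat.beq (nat_lit 1)))) (band (Nat.ble (nat_lit 22) (count2 (nat_lit 100) fun p => Nat.ble 256 (hs_E (nat_lit 1) p))) (allLt (nat_lit 7) (fun x => Nat.beq (hs_T x (nat_lit 1)) (nat_lit 1)))) = true := by decide +kernel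

theorem hs_L0_o : band (allRange (nat_lit 0) (nat_lit 100) (orbOK hs_T (nat_lit 15) (hs_E (nat_lit 0)) (Nat.beq (nat_lit 0)))) (band (Nat.ble (nat_lit 100) (count2 (nat_lit 100) fun p => Nat.ble 256 (hs_E (nat_lit 0) p))) (allLt (nat_lit 9) (fun x => Nat.beq (hs_T x (nat_lit 0)) (nat_lit 0)))) = true := by decide +kernel

/-- The letters: a strong generating set, deepest stabiliser first. -/
noncomputable def hs_g {G : Type*} [Group G] (a : ℕ → G) : ℕ → G := fun x => slp a 6 hs_defs (hs_iota x)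

theorem hs_tabs {G α : Type*} [Group G] [MulAction G α] {e : ℕ → α} {a : ℕ → G} (h0 : Tabs e 100 hs_S a 6) : Tabs e 100 hs_T (hs_g a) 15 :=
  Tabs.rename (ι := hs_iota) (g := slp a 6 hs_defs) ((Tabs.slp_base hs_defs h0).slp_add (by decide) _ hs_slp0) hs_ren

theorem hs_gen {G : Type*} [Group G] (a : ℕ → G) : genLt (hs_g a) 15 = genLt a 6 :=
  genLt_slp_eq a hs_defs (back := getP 8 255 (nat_lit 0xe0d0c0b0a09)) (by decide +kernel)

theorem hs_low5 {G α : Type*} [Group G] [MulAction G α] {e : ℕ → α} {a : ℕ → G} (he : Set.InjOn e (Set.Iio 100)) (h0 : Tabs e 100 hs_S a 6) :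
    LowLevel (genLt (hs_g a) 1) (genLt (hs_g a) 0) (e 5) 2 :=
  Tabs.lowLevel (hs_tabs h0) he (by decide) (by decide) (by decide) hs_L5_o

theorem hs_ge5 {G α : Type*} [Group G] [MulAction G α] {e : ℕ → α} {a : ℕ → G} (he : Set.InjOn e (Set.Iio 100)) (h0 : Tabs e 100 hs_S a 6) :
    Finite (genLt (hs_g a) 1) → 2 ≤ Nat.card (genLt (hs_g a) 1) := fun hK =>
  (hs_low5 he h0).card hK (one_le_card_fin _)

theorem hs_fix5 {G α : Type*} [Group G] [MulAction G α] {e : ℕ → α} {a : ℕ → G} (he : Set.InjOn e (Set.Iio 100)) (h0 : Tabs e 100 hs_S a 6) :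
    ∀ X : Subgroup G, Finite X → (genLt (hs_g a) 1) ≤ X → 2 * Nat.card (fixB e X [5]) ≤ Nat.card X :=
  (hs_low5 he h0).card_fix (card_fix_nil _ _)

theorem hs_low4 {G α : Type*} [Group G] [MulAction G α] {e : ℕ → α} {a : ℕ → G} (he : Set.InjOn e (Set.Iio 100)) (h0 : Tabs e 100 hs_S a 6) :
    LowLevel (genLt (hs_g a) 4) (genLt (hs_g a) 1) (e 4) 24 :=
  Tabs.lowLevel (hs_tabs h0) he (by decide) (by decide) (by decide) hs_L4_o

theorem hs_ge4 {G α : Type*} [Group G] [MulAction G α] {e : ℕ → α} {a : ℕ → G} (he : Set.InjOn e (Set.Iio 100)) (h0 : Tabs e 100 hs_S a 6) :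
    Finite (genLt (hs_g a) 4) → 48 ≤ Nat.card (genLt (hs_g a) 4) := fun hK =>
  (hs_low4 he h0).card hK (hs_ge5 he h0)

theorem hs_fix4 {G α : Type*} [Group G] [MulAction G α] {e : ℕ → α} {a : ℕ → G} (he : Set.InjOn e (Set.Iio 100)) (h0 : Tabs e 100 hs_S a 6) :
    ∀ X : Subgroup G, Finite X → (genLt (hs_g a) 4) ≤ X → 48 * Nat.card (fixB e X [4, 5]) ≤ Nat.card X :=
  (hs_low4 he h0).card_fix (hs_fix5 he h0)

theorem hs_low3 {G α : Type*} [Group G] [MulAction G α] {e : ℕ → α} {a : ℕ → G} (he : Set.InjOn e (Set.Iio 100)) (h0 : Tabs e 100 hs_S a 6) :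
    LowLevel (genLt (hs_g a) 5) (genLt (hs_g a) 4) (e 3) 40 :=
  Tabs.lowLevel (hs_tabs h0) he (by decide) (by decide) (by decide) hs_L3_o

theorem hs_ge3 {G α : Type*} [Group G] [MulAction G α] {e : ℕ → α} {a : ℕ → G} (he : Set.InjOn e (Set.Iio 100)) (h0 : Tabs e 100 hs_S a 6) :
    Finite (genLt (hs_g a) 5) → 1920 ≤ Nat.card (genLt (hs_g a) 5) := fun hK =>
  (hs_low3 he h0).card hK (hs_ge4 he h0)

theorem hs_fix3 {G α : Type*} [Group G] [MulAction G α] {e : ℕ → α} {a : ℕ → G} (he : Set.InjOn e (Set.Iio 100)) (h0 : Tabs e 100 hs_S a 6) :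
    ∀ X : Subgroup G, Finite X → (genLt (hs_g a) 5) ≤ X → 1920 * Nat.card (fixB e X [3, 4, 5]) ≤ Nat.card X :=
  (hs_low3 he h0).card_fix (hs_fix4 he h0)

theorem hs_low2 {G α : Type*} [Group G] [MulAction G α] {e : ℕ → α} {a : ℕ → G} (he : Set.InjOn e (Set.Iio 100)) (h0 : Tabs e 100 hs_S a 6) :
    LowLevel (genLt (hs_g a) 7) (genLt (hs_g a) 5) (e 2) 21 :=
  Tabs.lowLevel (hs_tabs h0) he (by decide) (by decide) (by decide) hs_L2_o

theorem hs_ge2 {G α : Type*} [Group G] [MulAction G α] {e : ℕ → α} {a : ℕ → G} (he : Set.InjOn e (Set.Iio 100)) (h0 : Tabs e 100 hs_S a 6) :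
    Finite (genLt (hs_g a) 7) → 40320 ≤ Nat.card (genLt (hs_g a) 7) := fun hK =>
  (hs_low2 he h0).card hK (hs_ge3 he h0)

theorem hs_fix2 {G α : Type*} [Group G] [MulAction G α] {e : ℕ → α} {a : ℕ → G} (he : Set.InjOn e (Set.Iio 100)) (h0 : Tabs e 100 hs_S a 6) :
    ∀ X : Subgroup G, Finite X → (genLt (hs_g a) 7) ≤ X → 40320 * Nat.card (fixB e X [2, 3, 4, 5]) ≤ Nat.card X :=
  (hs_low2 he h0).card_fix (hs_fix3 he h0)

theorem hs_low1 {G α : Type*} [Group G] [MulAction G α] {e : ℕ → α} {a : ℕ → G} (he : Set.InjOn e (Set.Iio 100)) (h0 : Tabs e 100 hs_S a 6) :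
    LowLevel (genLt (hs_g a) 9) (genLt (hs_g a) 7) (e 1) 22 :=
  Tabs.lowLevel (hs_tabs h0) he (by decide) (by decide) (by decide) hs_L1_o

theorem hs_ge1 {G α : Type*} [Group G] [MulAction G α] {e : ℕ → α} {a : ℕ → G} (he : Set.InjOn e (Set.Iio 100)) (h0 : Tabs e 100 hs_S a 6) :
    Finite (genLt (hs_g a) 9) → 887040 ≤ Nat.card (genLt (hs_g a) 9) := fun hK =>
  (hs_low1 he h0).card hK (hs_ge2 he h0)

theorem hs_fix1 {G α : Type*} [Group G] [MulAction G α] {e : ℕ → α} {a : ℕ → G} (he : Set.InjOn e (Set.Iio 100)) (h0 : Tabs e 100 hs_S a 6) :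
    ∀ X : Subgroup G, Finite X → (genLt (hs_g a) 9) ≤ X → 887040 * Nat.card (fixB e X [1, 2, 3, 4, 5]) ≤ Nat.card X :=
  (hs_low1 he h0).card_fix (hs_fix2 he h0)

theorem hs_low0 {G α : Type*} [Group G] [MulAction G α] {e : ℕ → α} {a : ℕ → G} (he : Set.InjOn e (Set.Iio 100)) (h0 : Tabs e 100 hs_S a 6) :
    LowLevel (genLt (hs_g a) 15) (genLt (hs_g a) 9) (e 0) 100 :=
  Tabs.lowLevel (hs_tabs h0) he (by decide) (by decide) (by decide) hs_L0_o

theorem hs_ge0 {G α : Type*} [Group G] [MulAction G α] {e : ℕ → α} {a : ℕ → G} (he : Set.InjOn e (Set.Iio 100)) (h0 : Tabs e 100 hs_S a 6) :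
    Finite (genLt (hs_g a) 15) → 88704000 ≤ Nat.card (genLt (hs_g a) 15) := fun hK =>
  (hs_low0 he h0).card hK (hs_ge1 he h0)

theorem hs_fix0 {G α : Type*} [Group G] [MulAction G α] {e : ℕ → α} {a : ℕ → G} (he : Set.InjOn e (Set.Iio 100)) (h0 : Tabs e 100 hs_S a 6) :
    ∀ X : Subgroup G, Finite X → (genLt (hs_g a) 15) ≤ X → 88704000 * Nat.card (fixB e X [0, 1, 2, 3, 4, 5]) ≤ Nat.card X :=
  (hs_low0 he h0).card_fix (hs_fix1 he h0)

theorem hs_ub0 {G α : Type*} [Group G] [MulAction G α] {e : ℕ → α} {a : ℕ → G} (he : Set.InjOn e (Set.Iio 100)) (h0 : Tabs e 100 hs_S a 6) (hub : Nat.card (genLt a 6) ≠ 0 ∧ Nat.card (genLt a 6) ≤ 88704000) :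
    Nat.card (genLt (hs_g a) 15) ≠ 0 ∧ Nat.card (genLt (hs_g a) 15) ≤ 88704000 := by rw [hs_gen]; exact hub

theorem hs_level0 {G α : Type*} [Group G] [MulAction G α] {e : ℕ → α} {a : ℕ → G} (he : Set.InjOn e (Set.Iio 100)) (h0 : Tabs e 100 hs_S a 6) (hub : Nat.card (genLt a 6) ≠ 0 ∧ Nat.card (genLt a 6) ≤ 88704000) :
    Level (genLt (hs_g a) 15) (genLt (hs_g a) 9) (e 0) 100 :=
  ((hs_low0 he h0).level (c := 887040) (hs_ub0 he h0 hub) (hs_ge1 he h0)).1

theorem hs_ub1 {G α : Type*} [Group G] [MulAction G α] {e : ℕ → α} {a : ℕ → G} (he : Set.InjOn e (Set.Iio 100)) (h0 : Tabs e 100 hs_S a 6) (hub : Nat.card (genLt a 6) ≠ 0 ∧ Nat.card (genLt a 6) ≤ 88704000) :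
    Nat.card (genLt (hs_g a) 9) ≠ 0 ∧ Nat.card (genLt (hs_g a) 9) ≤ 887040 :=
  ((hs_low0 he h0).level (c := 887040) (hs_ub0 he h0 hub) (hs_ge1 he h0)).2

theorem hs_level1 {G α : Type*} [Group G] [MulAction G α] {e : ℕ → α} {a : ℕ → G} (he : Set.InjOn e (Set.Iio 100)) (h0 : Tabs e 100 hs_S a 6) (hub : Nat.card (genLt a 6) ≠ 0 ∧ Nat.card (genLt a 6) ≤ 88704000) :
    Level (genLt (hs_g a) 9) (genLt (hs_g a) 7) (e 1) 22 :=
  ((hs_low1 he h0).level (c := 40320) (hs_ub1 he h0 hub) (hs_ge2 he h0)).1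

theorem hs_ub2 {G α : Type*} [Group G] [MulAction G α] {e : ℕ → α} {a : ℕ → G} (he : Set.InjOn e (Set.Iio 100)) (h0 : Tabs e 100 hs_S a 6) (hub : Nat.card (genLt a 6) ≠ 0 ∧ Nat.card (genLt a 6) ≤ 88704000) :
    Nat.card (genLt (hs_g a) 7) ≠ 0 ∧ Nat.card (genLt (hs_g a) 7) ≤ 40320 :=
  ((hs_low1 he h0).level (c := 40320) (hs_ub1 he h0 hub) (hs_ge2 he h0)).2

theorem hs_level2 {G α : Type*} [Group G] [MulAction G α] {e : ℕ → α} {a : ℕ → G} (he : Set.InjOn e (Set.Iio 100)) (h0 : Tabs e 100 hs_S a 6) (hub : Nat.card (genLt a 6) ≠ 0 ∧ Nat.card (genLt a 6) ≤ 88704000) :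
    Level (genLt (hs_g a) 7) (genLt (hs_g a) 5) (e 2) 21 :=
  ((hs_low2 he h0).level (c := 1920) (hs_ub2 he h0 hub) (hs_ge3 he h0)).1

theorem hs_ub3 {G α : Type*} [Group G] [MulAction G α] {e : ℕ → α} {a : ℕ → G} (he : Set.InjOn e (Set.Iio 100)) (h0 : Tabs e 100 hs_S a 6) (hub : Nat.card (genLt a 6) ≠ 0 ∧ Nat.card (genLt a 6) ≤ 88704000) :
    Nat.card (genLt (hs_g a) 5) ≠ 0 ∧ Nat.card (genLt (hs_g a) 5) ≤ 1920 :=
  ((hs_low2 he h0).level (c := 1920) (hs_ub2 he h0 hub) (hs_ge3 he h0)).2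

theorem hs_level3 {G α : Type*} [Group G] [MulAction G α] {e : ℕ → α} {a : ℕ → G} (he : Set.InjOn e (Set.Iio 100)) (h0 : Tabs e 100 hs_S a 6) (hub : Nat.card (genLt a 6) ≠ 0 ∧ Nat.card (genLt a 6) ≤ 88704000) :
    Level (genLt (hs_g a) 5) (genLt (hs_g a) 4) (e 3) 40 :=
  ((hs_low3 he h0).level (c := 48) (hs_ub3 he h0 hub) (hs_ge4 he h0)).1

theorem hs_ub4 {G α : Type*} [Group G] [MulAction G α] {e : ℕ → α} {a : ℕ → G} (he : Set.InjOn e (Set.Iio 100)) (h0 : Tabs e 100 hs_S a 6) (hub : Nat.card (genLt a 6) ≠ 0 ∧ Nat.card (genLt a 6) ≤ 88704000) :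
    Nat.card (genLt (hs_g a) 4) ≠ 0 ∧ Nat.card (genLt (hs_g a) 4) ≤ 48 :=
  ((hs_low3 he h0).level (c := 48) (hs_ub3 he h0 hub) (hs_ge4 he h0)).2

theorem hs_level4 {G α : Type*} [Group G] [MulAction G α] {e : ℕ → α} {a : ℕ → G} (he : Set.InjOn e (Set.Iio 100)) (h0 : Tabs e 100 hs_S a 6) (hub : Nat.card (genLt a 6) ≠ 0 ∧ Nat.card (genLt a 6) ≤ 88704000) :
    Level (genLt (hs_g a) 4) (genLt (hs_g a) 1) (e 4) 24 :=
  ((hs_low4 he h0).level (c := 2) (hs_ub4 he h0 hub) (hs_ge5 he h0)).1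

theorem hs_ub5 {G α : Type*} [Group G] [MulAction G α] {e : ℕ → α} {a : ℕ → G} (he : Set.InjOn e (Set.Iio 100)) (h0 : Tabs e 100 hs_S a 6) (hub : Nat.card (genLt a 6) ≠ 0 ∧ Nat.card (genLt a 6) ≤ 88704000) :
    Nat.card (genLt (hs_g a) 1) ≠ 0 ∧ Nat.card (genLt (hs_g a) 1) ≤ 2 :=
  ((hs_low4 he h0).level (c := 2) (hs_ub4 he h0 hub) (hs_ge5 he h0)).2

theorem hs_level5 {G α : Type*} [Group G] [MulAction G α] {e : ℕ → α} {a : ℕ → G} (he : Set.InjOn e (Set.Iio 100)) (h0 : Tabs e 100 hs_S a 6) (hub : Nat.card (genLt a 6) ≠ 0 ∧ Nat.card (genLt a 6) ≤ 88704000) :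
    Level (genLt (hs_g a) 1) (genLt (hs_g a) 0) (e 5) 2 :=
  ((hs_low5 he h0).level (c := 1) (hs_ub5 he h0 hub) (one_le_card_fin _)).1

theorem hs_card5 {G α : Type*} [Group G] [MulAction G α] {e : ℕ → α} {a : ℕ → G} (he : Set.InjOn e (Set.Iio 100)) (h0 : Tabs e 100 hs_S a 6) (hub : Nat.card (genLt a 6) ≠ 0 ∧ Nat.card (genLt a 6) ≤ 88704000) :
    Nat.card (genLt (hs_g a) 1) = 2 :=
  (hs_level5 he h0 hub).card (card_genLt_zero _)

theorem hs_base5 {G α : Type*} [Group G] [MulAction G α] {e : ℕ → α} {a : ℕ → G} (he : Set.InjOn e (Set.Iio 100)) (h0 : Tabs e 100 hs_S a 6) (hub : Nat.card (genLt a 6) ≠ 0 ∧ Nat.card (genLt a 6) ≤ 88704000) :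
    IsBase e (genLt (hs_g a) 1) [5] :=
  (hs_level5 he h0 hub).base (isBase_genLt_zero _ _)

theorem hs_card4 {G α : Type*} [Group G] [MulAction G α] {e : ℕ → α} {a : ℕ → G} (he : Set.InjOn e (Set.Iio 100)) (h0 : Tabs e 100 hs_S a 6) (hub : Nat.card (genLt a 6) ≠ 0 ∧ Nat.card (genLt a 6) ≤ 88704000) :
    Nat.card (genLt (hs_g a) 4) = 48 :=
  (hs_level4 he h0 hub).card (hs_card5 he h0 hub)

theorem hs_base4 {G α : Type*} [Group G] [MulAction G α] {e : ℕ → α} {a : ℕ → G} (he : Set.InjOn e (Set.Iio 100)) (h0 : Tabs e 100 hs_S a 6) (hub : Nat.card (genLt a 6) ≠ 0 ∧ Nat.card (genLt a 6) ≤ 88704000) :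
    IsBase e (genLt (hs_g a) 4) [4, 5] :=
  (hs_level4 he h0 hub).base (hs_base5 he h0 hub)

theorem hs_card3 {G α : Type*} [Group G] [MulAction G α] {e : ℕ → α} {a : ℕ → G} (he : Set.InjOn e (Set.Iio 100)) (h0 : Tabs e 100 hs_S a 6) (hub : Nat.card (genLt a 6) ≠ 0 ∧ Nat.card (genLt a 6) ≤ 88704000) :
    Nat.card (genLt (hs_g a) 5) = 1920 :=
  (hs_level3 he h0 hub).card (hs_card4 he h0 hub)

theorem hs_base3 {G α : Type*} [Group G] [MulAction G α] {e : ℕ → α} {a : ℕ → G} (he : Set.InjOn e (Set.Iio 100)) (h0 : Tabs e 100 hs_S a 6) (hub : Nat.card (genLt a 6) ≠ 0 ∧ Nat.card (genLt a 6) ≤ 88704000) :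
    IsBase e (genLt (hs_g a) 5) [3, 4, 5] :=
  (hs_level3 he h0 hub).base (hs_base4 he h0 hub)

theorem hs_card2 {G α : Type*} [Group G] [MulAction G α] {e : ℕ → α} {a : ℕ → G} (he : Set.InjOn e (Set.Iio 100)) (h0 : Tabs e 100 hs_S a 6) (hub : Nat.card (genLt a 6) ≠ 0 ∧ Nat.card (genLt a 6) ≤ 88704000) :
    Nat.card (genLt (hs_g a) 7) = 40320 :=
  (hs_level2 he h0 hub).card (hs_card3 he h0 hub)

theorem hs_base2 {G α : Type*} [Group G] [MulAction G α] {e : ℕ → α} {a : ℕ → G} (he : Set.InjOn e (Set.Iio 100)) (h0 : Tabs e 100 hs_S a 6) (hub : Nat.card (genLt a 6) ≠ 0 ∧ Nat.card (genLt a 6) ≤ 88704000) :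
    IsBase e (genLt (hs_g a) 7) [2, 3, 4, 5] :=
  (hs_level2 he h0 hub).base (hs_base3 he h0 hub)

theorem hs_card1 {G α : Type*} [Group G] [MulAction G α] {e : ℕ → α} {a : ℕ → G} (he : Set.InjOn e (Set.Iio 100)) (h0 : Tabs e 100 hs_S a 6) (hub : Nat.card (genLt a 6) ≠ 0 ∧ Nat.card (genLt a 6) ≤ 88704000) :
    Nat.card (genLt (hs_g a) 9) = 887040 :=
  (hs_level1 he h0 hub).card (hs_card2 he h0 hub)

theorem hs_base1 {G α : Type*} [Group G] [MulAction G α] {e : ℕ → α} {a : ℕ → G} (he : Set.InjOn e (Set.Iio 100)) (h0 : Tabs e 100 hs_S a 6) (hub : Nat.card (genLt a 6) ≠ 0 ∧ Nat.card (genLt a 6) ≤ 88704000) :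
    IsBase e (genLt (hs_g a) 9) [1, 2, 3, 4, 5] :=
  (hs_level1 he h0 hub).base (hs_base2 he h0 hub)

theorem hs_card0 {G α : Type*} [Group G] [MulAction G α] {e : ℕ → α} {a : ℕ → G} (he : Set.InjOn e (Set.Iio 100)) (h0 : Tabs e 100 hs_S a 6) (hub : Nat.card (genLt a 6) ≠ 0 ∧ Nat.card (genLt a 6) ≤ 88704000) :
    Nat.card (genLt (hs_g a) 15) = 88704000 :=
  (hs_level0 he h0 hub).card (hs_card1 he h0 hub)

theorem hs_base0 {G α : Type*} [Group G] [MulAction G α] {e : ℕ → α} {a : ℕ → G} (he : Set.InjOn e (Set.Iio 100)) (h0 : Tabs e 100 hs_S a 6) (hub : Nat.card (genLt a 6) ≠ 0 ∧ Nat.card (genLt a 6) ≤ 88704000) :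
    IsBase e (genLt (hs_g a) 15) [0, 1, 2, 3, 4, 5] :=
  (hs_level0 he h0 hub).base (hs_base1 he h0 hub)

theorem hs_hinv {G α : Type*} [Group G] [MulAction G α] {e : ℕ → α} {a : ℕ → G} (he : Set.InjOn e (Set.Iio 100)) (h0 : Tabs e 100 hs_S a 6) (hub : Nat.card (genLt a 6) ≠ 0 ∧ Nat.card (genLt a 6) ≤ 88704000) : ∀ x < 15, hs_g a x * hs_g a (hs_inv x) = 1 :=
  (hs_tabs h0).hinv_of_base (hs_base0 he h0 hub) (by decide +kernel)

theorem hs_card {G α : Type*} [Group G] [MulAction G α] {e : ℕ → α} {a : ℕ → G} (he : Set.InjOn e (Set.Iio 100)) (h0 : Tabs e 100 hs_S a 6) (hub : Nat.card (genLt a 6) ≠ 0 ∧ Nat.card (genLt a 6) ≤ 88704000) :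
    Nat.card (genLt a 6) = 88704000 := by
  rw [← hs_gen]; exact hs_card0 he h0 hub

end Cfsg.Agent.Spor.MHN
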