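import Mathlib
import Cfsg.Agent.Spor.HN.Main
import Cfsg.Agent.Spor.HN.Hs100
import Cfsg.Agent.Spor.Comp.Iso
import Cfsg.Agent.Spor.Blocks
import Cfsg.Agent.Spor.LC.HSGraph

/-!
The group `HH` acts on the Higman–Sims graph; it has a subgroup of index 2 that is a non-split double cover of the
Higman–Sims group.
-/

set_option autoImplicit false
set_option exponentiation.threshold 100000

namespace Cfsg.Agent.Spor.MHN

open Cfsg.Agent.Spor Cfsg.Agent.Spor.DC Cfsg.Spor MulAction

/-- The rows of the adjacency matrix. -/
noncomputable def adjA : ℕ → ℕ := (getP (nat_lit 100) (nat_lit 1267650600228229401496703205375) (nat_lit 0x10200200001d801431800d2722050183a80012cb4002009020402007c0000080010b92360858280007f81203001821602000000c004780018c00009101b1d0084cc8a1402941401100201211480800040b84080d20b8104020531908a00181402d004240141810000811080048e0644a9420504440100510070804641aa00ca01d00025c484060804004084414100a090483700803400aa34720600020b43200020000d72022000582201880628020000c1858012100020118954c20148800b10b480410122010a104211040810120209e815814004182014830c410100a21d0040120484200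21a0802404628aa41828205400ec0092004028144602220520140040d2c30020124480011882d0008844c00a60a00c18029fa011000420401082118000e05170002c0054801225000025613920003020815083852a0007e1e0014006000000500c00801206c04004c1508c25122440054908200180140119542301002a480100248020b0c1860598018c000300d08000e05c0123004008420818489444018311c800600038600007c0025900c600205200426100a0482000810d200401540c58228222000808c88080da0908044c070040102740001088a6204ac2040180064c0000e6c01003990020600035100406861208001ce00100426900010428d908024311042c38000008ecc004020a2100110214200b240480d032c020004000cc425808c1260560011013268000424c30488108014808509d0800045a8040812804820454ca008008e242014008180015d6000403e000810a05080620116080a00380100a05229ca82a58012c05341000200000ae11303029400122c00800400006050222c310006831020301500ca0800c84010a41080421515700200600500a200091188549a00000352c0100950a120024e2000004bb400032204440c0000400132907003067a002084004042094013a8100a55800c040082001195a100189900055000310820cd090010081c0601c40088004063892000056a420ac50800440020034b800070d01023014023350201000930108ac508004101c040004c0f8008c0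00201019008f4101ce202028300550002401049054498020a10048d004280c89020208508c00e00900d228a2050010119408058308894000600885b10001805888920a42080300142088422848016222401c6200001a020210a62c40100a070010054113118880010484700000801c3aa6130004c2006a80004540808a9c0c82844a0028a000c8000001a00c6201c0012321000911442a142c000400202801d00a523d020000008441e8742048020000204060212b84522a068100100435003000056411a011501300548004803082e200040d50080089300828110d212026420023200829804012580804283100c0a33120480410011a8120422842009d18440301009010502202c02308d01810600400238c204c10178200000005802c89a1c24003304224608401009003448300002d00a42000189340c80340800c021008ce446200008003428059010105b228c00000e200828684809006070820489100c08510260210820524800a10829800044090404e060a2208320248408170c900008310811284262400058040222200dc0852404670200020211901048c401110222020c00662b008008c022980006006f8300180402a0050081030324490404046284422121c88008290a200010528810810034a7010240488042))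

theorem adjc : allLt 100 (fun i => force (adjA i) fun a => band (band (!bit a i) (Nat.beq (countLt 100 (bit a)) 22))
    (allLt 100 fun j => force (adjA j) fun b => band (beqB (bit a j) (bit b i))
      (bor (Nat.beq i j) (force (Nat.land a b) fun c => Nat.beq (countLt 100 (bit c)) (Bool.rec 6 0 (bit a j)))))) =
    true := by decide +kernel

theorem adjs {i j : ℕ} (hi : i < 100) (hj : j < 100) : (bit (adjA i) i = false ∧ countLt 100 (bit (adjA i)) = 22) ∧
    bit (adjA i) j = bit (adjA j) i ∧
      (i = j ∨ countLt 100 (bit (Nat.land (adjA i) (adjA j))) = Bool.rec 6 0 (bit (adjA i) j)) := by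
  have h := (allLt_iff _ _).1 adjc i hi
  simp only [force_eq, band_iff, allLt_iff, bor_iff, nbeq_iff, beqB_iff, Bool.not_eq_true'] at h
  exact ⟨h.1, h.2 j hj⟩

/-- The Higman–Sims graph. -/
def Gam : SimpleGraph (Fin 100) where
  Adj i j := bit (adjA i) j = true
  symm := ⟨fun i j h => (adjs j.2 i.2).2.1.trans h⟩
  loopless := ⟨fun i h => by simp [(adjs i.2 i.2).1.1] at h⟩

noncomputable instance decGam : DecidableRel Gam.Adj := fun _ _ => Classical.propDecidable _

theorem card_bit (n : ℕ) (f : ℕ → Bool) {S : Type} [Fintype S] (e : S ≃ {i : Fin n // f i = true}) :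
    Fintype.card S = countLt n f := by
  rw [Fintype.card_congr e, countLt_eq, Fintype.card_subtype, Finset.card_filter, Finset.card_filter,
    Finset.sum_range fun i => if f i = true then 1 else 0]

theorem common (i j : Fin 100) :
    Fintype.card (Gam.commonNeighbors i j) = countLt 100 (bit (Nat.land (adjA i) (adjA j))) :=
  card_bit _ _ (Equiv.subtypeEquivRight fun k => by
    show bit _ _ = true ∧ bit _ _ = true ↔ _
    simp only [bit_eq]
    exact (Bool.and_eq_true _ _).symm.to_iff.trans (Nat.testBit_and _ _ _ ▸ Iff.rfl))

theorem srg : Gam.IsSRGWith 100 22 0 6 where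
  card := Fintype.card_fin 100
  regular := fun i => by
    rw [← SimpleGraph.card_neighborSet_eq_degree, ← (adjs i.2 i.2).1.2]
    exact card_bit _ _ (Equiv.refl _)
  of_adj := fun i j h => by
    rw [common, (adjs i.2 j.2).2.2.resolve_left fun h1 => h.ne (Fin.ext h1), show bit _ _ = true from h]
  of_not_adj := fun i j h1 h => by
    rw [common, (adjs i.2 j.2).2.2.resolve_left fun h2 => h1 (Fin.ext h2), Bool.eq_false_iff.2 h]

theorem tabs100 : Tabs (finE 100) 100 hs_S (fun x => permOf 100 (hs_S x)) 6 :=
  tabs_permOf (inv := inv) ((allLt_iff 6 _).1 (by decide +kernel))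

open Classical in
/-- The letters as automorphisms of the graph. -/
noncomputable def aut (x : ℕ) : Gam ≃g Gam :=
  if h : ∀ i j, Gam.Adj (permOf 100 (hs_S x) i) (permOf 100 (hs_S x) j) ↔ Gam.Adj i j then ⟨_, h _ _⟩ else 1

theorem tabsAut : Tabs (finE 100) 100 hs_S aut 6 := fun x hx i hi => by
  have h : allLt 6 (fun x => allLt 100 fun i => force (adjA i) fun a => force (adjA (hs_S x i)) fun b =>
    allLt 100 fun j => beqB (bit b (hs_S x j)) (bit a j)) = true := by decide +kernel
  simp only [allLt_iff, force_eq, beqB_iff] at h
  have h1 : ∀ i : Fin 100, (permOf 100 (hs_S x) i : ℕ) = hs_S x i := fun i => by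
    have h2 := tabs100 x hx i i.2
    rw [finE_coe] at h2
    exact (congrArg Fin.val h2.2).trans (finE_val h2.1)
  refine ⟨(tabs100 x hx i hi).1, ?_⟩
  rw [aut, dif_pos fun i j => by
    show bit _ _ = true ↔ bit _ _ = true
    rw [h1, h1, h x hx i i.2 j j.2]]
  exact (tabs100 x hx i hi).2

theorem faithfulAut (a : Gam ≃g Gam) (h : ∀ i < 100, a • finE 100 i = finE 100 i) : a = 1 :=
  RelIso.ext fun i => by simpa [finE_coe] using h i i.2

/-- The action on the Higman–Sims graph. -/
theorem exists_rho : ∃ ρ : HH →* (Gam ≃g Gam), Function.Surjective ρ ∧ ∀ y, ρ y = 1 ↔ y = 1 ∨ y = g 6 := by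
  obtain ⟨ρ, hρ⟩ := wq_hom (t := RH) (m := 6) (by decide +kernel)
    (tabsAut.rels_of_faithful (fun a _ => faithfulAut a) (by decide +kernel))
  have hA := Srg.srg100_card_aut srg
  have : Finite (Gam ≃g Gam) := Nat.finite_of_card_ne_zero (by rw [hA]; decide)
  have h1 : ρ.range = ⊤ := by
    rw [MonoidHom.range_eq_map, ← top0, map_genLt (g := g0) _ hρ]
    exact Subgroup.eq_top_of_card_eq _ ((hs_card (finE_injOn 100) tabsAut
      ⟨Nat.card_pos.ne', hA ▸ Subgroup.card_le_card_group _⟩).trans hA.symm)
  have h2 : Nat.card ρ.ker = 2 := by
    have h3 := ρ.ker.index_mul_card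
    rw [Subgroup.index_ker, h1, Subgroup.card_top, hA, cardH] at h3
    omega
  have h3 : ρ (g 6) = 1 := by
    rw [g_a, map_mul, g_lt (by decide), show ρ (g0 0) = _ from hρ 0 (by decide)]
    simpa using tabsAut.eq_one_of_faithful (fun a _ => faithfulAut a) (w := [0, 0]) (by decide +kernel)
  have h4 : g 6 ≠ 1 := by
    simpa using tabs.ne_one (finE_injOn 1408) (w := [6]) (i := 0) rfl (by decide) (by decide +kernel)
  refine ⟨ρ, MonoidHom.range_eq_top.1 h1, fun y => ⟨fun h => or_iff_not_imp_left.2 fun h5 => ?_, ?_⟩⟩
  · obtain ⟨u, -, hu⟩ := (Nat.card_eq_two_iff' (1 : ρ.ker)).1 h2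
    exact congrArg Subtype.val ((hu ⟨y, h⟩ fun h => h5 (congrArg Subtype.val h)).trans
      (hu ⟨g 6, h3⟩ fun h => h4 (congrArg Subtype.val h)).symm)
  · rintro (rfl | rfl)
    exacts [map_one ρ, h3]

theorem exists_double_cover : ∃ K : Subgroup HH, K.index = 2 ∧ IsNonsplitDoubleCover K HS := by
  obtain ⟨ρ, h1, h2⟩ := exists_rho
  obtain ⟨φ0, h3⟩ := LC.exists_hom_HS srg
  let φ := φ0.comp LC.hsEquiv.symm.toMonoidHom
  have h4 : Function.Injective φ := h3.comp LC.hsEquiv.symm.injective
  have h5 : φ.range.index = 2 := by
    have h6 := φ.range.index_mul_card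
    rw [← Nat.card_congr (MonoidHom.ofInjective h4).toEquiv, LC.card_SporHS, Srg.srg100_card_aut srg] at h6
    omega
  have h6 : (φ.range.comap ρ).index = 2 := (Subgroup.index_comap_of_surjective _ h1).trans h5
  let ψ := (MonoidHom.ofInjective h4).symm.toMonoidHom.comp (ρ.subgroupComap φ.range)
  have h7 : Function.Surjective ψ :=
    (MonoidHom.ofInjective h4).symm.surjective.comp (ρ.subgroupComap_surjective_of_surjective _ h1)
  let s : φ.range.comap ρ := ⟨_, Subgroup.mul_self_mem_of_index_two h6 (evalW g [7, 34])⟩
  have h8 : ((s * s : φ.range.comap ρ) : HH) = g 6 := by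
    simpa [s, mul_assoc] using ctx.eq (v := [7, 34, 7, 34, 7, 34, 7, 34]) (w := [6]) rfl rfl (by decide +kernel)
  have h9 : ∀ a, ψ a = 1 ↔ a = 1 ∨ a = s * s := fun a => by
    rw [Subtype.ext_iff (a1 := a), Subtype.ext_iff (a1 := a), h8, OneMemClass.coe_one, ← h2]
    exact (map_eq_one_iff _ (MonoidHom.ofInjective h4).symm.injective).trans Subtype.ext_iff
  have := LC.simple_SporHS
  refine ⟨_, h6, nonsplit_of_hom ψ h7 ((IsSimpleGroup.eq_bot_or_eq_top_of_normal _ inferInstance).resolve_right
    fun h => ?_) (fun h => ?_) h9 fun L hL => ?_⟩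
  · let _ : CommGroup HS := Group.commGroupOfCenterEqTop h
    have := IsSimpleGroup.prime_card (α := HS)
    rw [LC.card_SporHS] at this
    norm_num at this
  · rw [h] at h8
    exact tabs.ne_one (finE_injOn 1408) (w := [6]) (i := 0) rfl (by decide) (by decide +kernel) (by simpa using h8.symm)
  · have h10 : (L.map ψ).index = 2 := (L.index_map_eq h7 fun a ha => by
      rcases (h9 a).1 ha with rfl | rfl
      exacts [L.one_mem, Subgroup.mul_self_mem_of_index_two hL s]).trans hL
    rcases IsSimpleGroup.eq_bot_or_eq_top_of_normal _ (Subgroup.normal_of_index_eq_two h10) with h | h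
    · rw [h, Subgroup.index_bot, LC.card_SporHS] at h10; omega
    · rw [h, Subgroup.index_top] at h10; omega

end Cfsg.Agent.Spor.MHN
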